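import Mathlib.RingTheory.Etale.Basic
import Mathlib.RingTheory.Etale.Field
import Mathlib.RingTheory.Unramified.Pi
import Mathlib.RingTheory.Kaehler.TensorProduct
import Mathlib.RingTheory.Artinian.Module
import Mathlib.RingTheory.Trace.Basic
import Mathlib.LinearAlgebra.Trace
import Mathlib.FieldTheory.IsAlgClosed.AlgebraicClosure
import Mathlib.RingTheory.Flat.Basic
import Mathlib.RingTheory.Flat.FaithfullyFlat.Basic

/-!
# Finite group schemes of order prime to the characteristic, algebraic part
-/

set_option autoImplicit false
set_option linter.style.haveILetI false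
universe u

open TensorProduct

namespace Groth.Agent.TraceEtale22

variable (K : Type u) [Field K] (A : Type u) [CommRing A] [Algebra K A]

/-- A group structure on the points of `Spec A`, natural in the test algebra. -/
structure PointGroup where
  mul : ∀ (C : Type u) [CommRing C] [Algebra K C], (A →ₐ[K] C) → (A →ₐ[K] C) → (A →ₐ[K] C)
  one : ∀ (C : Type u) [CommRing C] [Algebra K C], (A →ₐ[K] C)
  inv : ∀ (C : Type u) [CommRing C] [Algebra K C], (A →ₐ[K] C) → (A →ₐ[K] C)
  mul_assoc : ∀ (C : Type u) [CommRing C] [Algebra K C] (a b c : A →ₐ[K] C),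
    mul C (mul C a b) c = mul C a (mul C b c)
  one_mul : ∀ (C : Type u) [CommRing C] [Algebra K C] (a : A →ₐ[K] C), mul C (one C) a = a
  mul_one : ∀ (C : Type u) [CommRing C] [Algebra K C] (a : A →ₐ[K] C), mul C a (one C) = a
  inv_mul : ∀ (C : Type u) [CommRing C] [Algebra K C] (a : A →ₐ[K] C), mul C (inv C a) a = one C
  mul_inv : ∀ (C : Type u) [CommRing C] [Algebra K C] (a : A →ₐ[K] C), mul C a (inv C a) = one C
  comp_mul : ∀ (C D : Type u) [CommRing C] [Algebra K C] [CommRing D] [Algebra K D] (f : C →ₐ[K] D)
    (a b : A →ₐ[K] C), f.comp (mul C a b) = mul D (f.comp a) (f.comp b)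

variable {K A}

namespace PointGroup

variable (P : PointGroup K A)

theorem comp_one {C D : Type u} [CommRing C] [Algebra K C] [CommRing D] [Algebra K D] (f : C →ₐ[K] D) :
    f.comp (P.one C) = P.one D := by
  have h := P.comp_mul C D f (P.one C) (P.one C)
  rw [P.one_mul] at h
  calc f.comp (P.one C) = P.mul D (P.inv D (f.comp (P.one C)))
        (P.mul D (f.comp (P.one C)) (f.comp (P.one C))) := by
        rw [← P.mul_assoc, P.inv_mul, P.one_mul]
    _ = P.one D := by rw [← h, P.inv_mul]

theorem comp_inv {C D : Type u} [CommRing C] [Algebra K C] [CommRing D] [Algebra K D] (f : C →ₐ[K] D)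
    (a : A →ₐ[K] C) : f.comp (P.inv C a) = P.inv D (f.comp a) := by
  have h : P.mul D (f.comp (P.inv C a)) (f.comp a) = P.one D := by
    rw [← P.comp_mul, P.inv_mul, P.comp_one]
  rw [← P.mul_one _ (f.comp (P.inv C a)), ← P.mul_inv _ (f.comp a), ← P.mul_assoc, h, P.one_mul]

/-- The shear automorphism of `A ⊗ A` over the left factor. -/
noncomputable def shearHom : A ⊗[K] A →ₐ[A] A ⊗[K] A :=
  Algebra.TensorProduct.lift (Algebra.ofId A _)
    (P.mul _ (Algebra.TensorProduct.includeLeft) (Algebra.TensorProduct.includeRight))
    (fun _ _ => Commute.all _ _)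

noncomputable def shearInv : A ⊗[K] A →ₐ[A] A ⊗[K] A :=
  Algebra.TensorProduct.lift (Algebra.ofId A _)
    (P.mul _ (P.inv _ (Algebra.TensorProduct.includeLeft)) (Algebra.TensorProduct.includeRight))
    (fun _ _ => Commute.all _ _)

theorem shearHom_comp_right : (P.shearHom.restrictScalars K).comp Algebra.TensorProduct.includeRight =
    P.mul _ Algebra.TensorProduct.includeLeft Algebra.TensorProduct.includeRight := by
  ext a; simp [shearHom]

theorem shearInv_comp_right : (P.shearInv.restrictScalars K).comp Algebra.TensorProduct.includeRight =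
    P.mul _ (P.inv _ Algebra.TensorProduct.includeLeft) Algebra.TensorProduct.includeRight := by
  ext a; simp [shearInv]

theorem shearHom_comp_left : (P.shearHom.restrictScalars K).comp Algebra.TensorProduct.includeLeft =
    (Algebra.TensorProduct.includeLeft : A →ₐ[K] A ⊗[K] A) := by
  ext a; simp [shearHom]

theorem shearInv_comp_left : (P.shearInv.restrictScalars K).comp Algebra.TensorProduct.includeLeft =
    (Algebra.TensorProduct.includeLeft : A →ₐ[K] A ⊗[K] A) := by
  ext a; simp [shearInv]

/-- The shear automorphism as an equivalence. -/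
noncomputable def shear : A ⊗[K] A ≃ₐ[A] A ⊗[K] A :=
  AlgEquiv.ofAlgHom P.shearHom P.shearInv
    (Algebra.TensorProduct.ext (by ext) (AlgHom.ext fun a => by
      have h : (P.shearHom.restrictScalars K).comp ((P.shearInv.restrictScalars K).comp
          Algebra.TensorProduct.includeRight) = (Algebra.TensorProduct.includeRight : A →ₐ[K] A ⊗[K] A) := by
        rw [P.shearInv_comp_right, P.comp_mul, P.comp_inv, P.shearHom_comp_left, P.shearHom_comp_right,
          ← P.mul_assoc, P.inv_mul, P.one_mul]
      exact AlgHom.congr_fun h a))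
    (Algebra.TensorProduct.ext (by ext) (AlgHom.ext fun a => by
      have h : (P.shearInv.restrictScalars K).comp ((P.shearHom.restrictScalars K).comp
          Algebra.TensorProduct.includeRight) = (Algebra.TensorProduct.includeRight : A →ₐ[K] A ⊗[K] A) := by
        rw [P.shearHom_comp_right, P.comp_mul, P.shearInv_comp_left, P.shearInv_comp_right,
          ← P.mul_assoc, P.mul_inv, P.one_mul]
      exact AlgHom.congr_fun h a))

/-- Left translation by a rational point. -/
noncomputable def translateHom (p : A →ₐ[K] K) : A →ₐ[K] A :=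
  P.mul A ((Algebra.ofId K A).comp p) (AlgHom.id K A)

theorem translateHom_comp (p q : A →ₐ[K] K) :
    (P.translateHom p).comp (P.translateHom q) = P.translateHom (P.mul K q p) := by
  simp only [translateHom, P.comp_mul, AlgHom.comp_id, ← AlgHom.comp_assoc]
  rw [show (P.mul A ((Algebra.ofId K A).comp p) (AlgHom.id K A)).comp (Algebra.ofId K A) =
    Algebra.ofId K A by ext, P.mul_assoc]

theorem translateHom_one : P.translateHom (P.one K) = AlgHom.id K A := by
  rw [translateHom, P.comp_one, P.one_mul]

/-- Left translation by a rational point, as an automorphism. -/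
noncomputable def translate (p : A →ₐ[K] K) : A ≃ₐ[K] A :=
  AlgEquiv.ofAlgHom (P.translateHom p) (P.translateHom (P.inv K p))
    (by rw [translateHom_comp, P.inv_mul, translateHom_one])
    (by rw [translateHom_comp, P.mul_inv, translateHom_one])

theorem one_translate (p : A →ₐ[K] K) (a : A) : P.one K (P.translate p a) = p a := by
  have h : (P.one K).comp (P.translateHom p) = p := by
    rw [translateHom, P.comp_mul, ← AlgHom.comp_assoc,
      show (P.one K).comp (Algebra.ofId K A) = AlgHom.id K K by ext,
      AlgHom.id_comp, AlgHom.comp_id, P.mul_one]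
  exact AlgHom.congr_fun h a

include P in
/-- A finite algebra over an algebraically closed field with a group structure on its points and
invertible dimension is reduced. -/
theorem isReduced_of_isAlgClosed [IsAlgClosed K] [Module.Finite K A]
    (hn : (Module.finrank K A : K) ≠ 0) : IsReduced A := by
  haveI : IsArtinianRing A := IsArtinianRing.of_finite K A
  let ψ : A →ₗ[K] Module.Dual K A := Algebra.traceForm K A
  have hψ : ∀ a b, ψ a b = Algebra.trace K A (a * b) := fun a b => Algebra.traceForm_apply K a b
  suffices hN : ∀ a, ψ a = 0 → a = 0 by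
    refine ⟨fun a ha => hN a (LinearMap.ext fun b => ?_)⟩
    rw [hψ]
    refine (LinearMap.isNilpotent_trace_of_isNilpotent ?_).eq_zero
    exact IsNilpotent.map ((Commute.all a b).isNilpotent_mul_right ha) (Algebra.lmul K A)
  -- the radical lies in the augmentation ideal
  have hε : ∀ a, ψ a = 0 → P.one K a = 0 := by
    intro a ha
    by_contra hne
    let I : Ideal A :=
      { carrier := {x | ψ x = 0}
        add_mem' := fun {x y} (hx : ψ x = 0) (hy : ψ y = 0) => by
          show ψ (x + y) = 0
          rw [map_add, hx, hy, add_zero]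
        zero_mem' := map_zero ψ
        smul_mem' := fun c x (hx : ψ x = 0) => LinearMap.ext fun b => by
          have := LinearMap.congr_fun hx (c * b)
          simp only [hψ, LinearMap.zero_apply] at this ⊢
          rw [smul_eq_mul, mul_comm c x, _root_.mul_assoc]; exact this }
    have hI : I = ⊤ := by
      by_contra hI
      obtain ⟨M, hM, hIM⟩ := Ideal.exists_le_maximal I hI
      have hbij := IsAlgClosed.algebraMap_bijective_of_isIntegral (k := K) (K := A ⧸ M)
      let p : A →ₐ[K] K := (AlgEquiv.ofBijective (Algebra.ofId K (A ⧸ M)) hbij).symm.toAlgHom.comp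
        (Ideal.Quotient.mkₐ K M)
      let a' := (P.translate p).symm a
      have ha' : ψ a' = 0 := LinearMap.ext fun b => by
        rw [hψ, LinearMap.zero_apply, ← Algebra.trace_eq_of_algEquiv (P.translate p), map_mul,
          AlgEquiv.apply_symm_apply, ← hψ, ha, LinearMap.zero_apply]
      have h0 : p a' = 0 := by
        show (AlgEquiv.ofBijective (Algebra.ofId K (A ⧸ M)) hbij).symm (Ideal.Quotient.mk M a') = 0
        rw [Ideal.Quotient.eq_zero_iff_mem.2 (hIM (show a' ∈ I from ha')), map_zero]
      rw [← P.one_translate, AlgEquiv.apply_symm_apply] at h0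
      exact hne h0
    have h1 : ψ (1 : A) = 0 := (hI ▸ Submodule.mem_top : (1 : A) ∈ I)
    have h2 := LinearMap.congr_fun h1 (1 : A)
    rw [hψ, _root_.mul_one, LinearMap.zero_apply, ← map_one (algebraMap K A), Algebra.trace_algebraMap,
      nsmul_eq_mul, _root_.mul_one] at h2
    exact hn h2
  intro a ha
  obtain ⟨l, hl⟩ : ∃ l : Module.Dual K A →ₗ[K] K, l ∘ₗ ψ = (P.one K).toLinearMap := by
    have hle : LinearMap.ker ψ ≤ LinearMap.ker (P.one K).toLinearMap := fun x hx => hε x hx
    obtain ⟨s, hs⟩ := LinearMap.exists_extend
      (((LinearMap.ker ψ).liftQ (P.one K).toLinearMap hle).comp ψ.quotKerEquivRange.symm.toLinearMap)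
    refine ⟨s, LinearMap.ext fun x => ?_⟩
    have := LinearMap.congr_fun hs ⟨ψ x, LinearMap.mem_range_self ψ x⟩
    simp only [LinearMap.comp_apply, Submodule.subtype_apply, LinearEquiv.coe_coe,
      LinearMap.quotKerEquivRange_symm_apply_image ψ x] at this
    exact this
  have hmul : ∀ z : A ⊗[K] A, ∀ w, LinearMap.baseChange A ψ z = 0 → Algebra.trace A (A ⊗[K] A) (z * w) = 0 := by
    intro z w hz
    induction w using TensorProduct.induction_on with
    | zero => rw [mul_zero, map_zero]
    | add x y hx hy => rw [mul_add, map_add, hx, hy, add_zero]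
    | tmul c b =>
      have key : ∀ z : A ⊗[K] A, Algebra.trace A (A ⊗[K] A) (z * (c ⊗ₜ b)) =
          c * TensorProduct.AlgebraTensorModule.rid K A A
            ((LinearMap.applyₗ b).baseChange A (LinearMap.baseChange A ψ z)) := by
        intro z
        induction z using TensorProduct.induction_on with
        | zero => rw [zero_mul, map_zero, map_zero, map_zero, map_zero, mul_zero]
        | add x y hx hy => rw [add_mul, map_add, hx, hy, map_add, map_add, map_add, mul_add]
        | tmul x y =>
          rw [Algebra.TensorProduct.tmul_mul_tmul, LinearMap.baseChange_tmul, LinearMap.baseChange_tmul,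
            TensorProduct.AlgebraTensorModule.rid_tmul]
          have : (x * c) ⊗ₜ[K] (y * b) = (x * c) • ((1 : A) ⊗ₜ[K] (y * b)) := by
            rw [TensorProduct.smul_tmul', smul_eq_mul, _root_.mul_one]
          rw [this, map_smul, smul_eq_mul]
          have htr : Algebra.trace A (A ⊗[K] A) ((1 : A) ⊗ₜ[K] (y * b)) =
              algebraMap K A (Algebra.trace K A (y * b)) := by
            rw [Algebra.trace_apply, Algebra.trace_apply, ← LinearMap.trace_baseChange]
            congr 1
            ext; simp
          rw [htr, LinearMap.applyₗ_apply_apply, hψ, Algebra.smul_def]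
          ring
      rw [key, hz, map_zero, map_zero, mul_zero]
  -- the image of `a` under the shear lies in the radical
  have hz : LinearMap.baseChange A ψ (P.shear ((1 : A) ⊗ₜ a)) = 0 := by
    have h1 : ∀ w, Algebra.trace A (A ⊗[K] A) (P.shear ((1 : A) ⊗ₜ a) * w) = 0 := by
      intro w
      obtain ⟨w, rfl⟩ := P.shear.surjective w
      rw [← map_mul, Algebra.trace_eq_of_algEquiv]
      exact hmul _ _ (by rw [LinearMap.baseChange_tmul, ha, TensorProduct.tmul_zero])
    generalize P.shear ((1 : A) ⊗ₜ a) = z at h1
    let c := Module.Free.chooseBasis K A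
    let e := (TensorProduct.AlgebraTensorModule.congr (LinearEquiv.refl A A) c.dualBasis.repr).trans
      (TensorProduct.finsuppScalarRight K A A _)
    apply e.injective
    rw [map_zero]
    ext i
    have h2 : ∀ z : A ⊗[K] A, e (LinearMap.baseChange A ψ z) i =
        Algebra.trace A (A ⊗[K] A) (z * ((1 : A) ⊗ₜ c i)) := by
      intro z
      induction z using TensorProduct.induction_on with
      | zero => simp
      | add x y hx hy => rw [map_add, map_add, Finsupp.add_apply, hx, hy, add_mul, map_add]
      | tmul x y =>
        have htr : Algebra.trace A (A ⊗[K] A) ((1 : A) ⊗ₜ[K] (y * c i)) =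
            algebraMap K A (Algebra.trace K A (y * c i)) := by
          rw [Algebra.trace_apply, Algebra.trace_apply, ← LinearMap.trace_baseChange]
          congr 1
          ext; simp
        rw [Algebra.TensorProduct.tmul_mul_tmul, _root_.mul_one,
          show x ⊗ₜ[K] (y * c i) = x • ((1 : A) ⊗ₜ[K] (y * c i)) by
            rw [TensorProduct.smul_tmul', smul_eq_mul, _root_.mul_one], map_smul, htr]
        simp [e, hψ, Algebra.smul_def, mul_comm]
    rw [h2, h1, Finsupp.zero_apply]
  -- apply the counit on the right factor
  let r : A ⊗[K] A →ₐ[K] A :=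
    Algebra.TensorProduct.lift (AlgHom.id K A) ((Algebra.ofId K A).comp (P.one K)) fun _ _ => Commute.all _ _
  have hr : r (P.shear ((1 : A) ⊗ₜ a)) = a := by
    have h : r.comp ((P.shearHom.restrictScalars K).comp Algebra.TensorProduct.includeRight) = AlgHom.id K A := by
      rw [P.shearHom_comp_right, P.comp_mul,
        show r.comp (Algebra.TensorProduct.includeLeft : A →ₐ[K] A ⊗[K] A) = AlgHom.id K A by ext; simp [r],
        show r.comp (Algebra.TensorProduct.includeRight : A →ₐ[K] A ⊗[K] A) = (Algebra.ofId K A).comp (P.one K) by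
          ext; simp [r],
        P.comp_one, P.mul_one]
    exact AlgHom.congr_fun h a
  have hrl : ∀ z : A ⊗[K] A, r z =
      TensorProduct.AlgebraTensorModule.rid K A A (l.baseChange A (LinearMap.baseChange A ψ z)) := by
    intro z
    induction z using TensorProduct.induction_on with
    | zero => simp
    | add x y hx hy => simp only [map_add, hx, hy]
    | tmul x y =>
      have : l (ψ y) = P.one K y := LinearMap.congr_fun hl y
      simp [r, this, Algebra.smul_def, mul_comm]
  rw [← hr, hrl, hz, map_zero, map_zero]

/-- Base change of a group structure on points. -/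
noncomputable def baseChange (L : Type u) [Field L] [Algebra K L] : PointGroup L (L ⊗[K] A) where
  mul C _ _ a b :=
    letI : Algebra K C := Algebra.compHom C (algebraMap K L)
    haveI : IsScalarTower K L C := IsScalarTower.of_algebraMap_eq fun _ => rfl
    AlgHom.liftEquiv K L A C (P.mul C ((AlgHom.liftEquiv K L A C).symm a) ((AlgHom.liftEquiv K L A C).symm b))
  one C _ _ :=
    letI : Algebra K C := Algebra.compHom C (algebraMap K L)
    haveI : IsScalarTower K L C := IsScalarTower.of_algebraMap_eq fun _ => rfl
    AlgHom.liftEquiv K L A C (P.one C)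
  inv C _ _ a :=
    letI : Algebra K C := Algebra.compHom C (algebraMap K L)
    haveI : IsScalarTower K L C := IsScalarTower.of_algebraMap_eq fun _ => rfl
    AlgHom.liftEquiv K L A C (P.inv C ((AlgHom.liftEquiv K L A C).symm a))
  mul_assoc C _ _ a b c := by simp only [Equiv.symm_apply_apply, P.mul_assoc]
  one_mul C _ _ a := by simp only [Equiv.symm_apply_apply, P.one_mul, Equiv.apply_symm_apply]
  mul_one C _ _ a := by simp only [Equiv.symm_apply_apply, P.mul_one, Equiv.apply_symm_apply]
  inv_mul C _ _ a := by simp only [Equiv.symm_apply_apply, P.inv_mul]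
  mul_inv C _ _ a := by simp only [Equiv.symm_apply_apply, P.mul_inv]
  comp_mul C D _ _ _ _ f a b := by
    letI : Algebra K C := Algebra.compHom C (algebraMap K L)
    haveI : IsScalarTower K L C := IsScalarTower.of_algebraMap_eq fun _ => rfl
    letI : Algebra K D := Algebra.compHom D (algebraMap K L)
    haveI : IsScalarTower K L D := IsScalarTower.of_algebraMap_eq fun _ => rfl
    have h : ∀ x : L ⊗[K] A →ₐ[L] C, (AlgHom.liftEquiv K L A D).symm (f.comp x) =
        (f.restrictScalars K).comp ((AlgHom.liftEquiv K L A C).symm x) := fun x => rfl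
    apply (AlgHom.liftEquiv K L A D).symm.injective
    rw [h, Equiv.symm_apply_apply, Equiv.symm_apply_apply, P.comp_mul, h, h]

end PointGroup

/-- A finite algebra over a field with a group structure on its points and invertible dimension is
formally unramified. -/
theorem formallyUnramified_of_pointGroup [Module.Finite K A] (P : PointGroup K A)
    (hn : (Module.finrank K A : K) ≠ 0) : Algebra.FormallyUnramified K A := by
  let L := AlgebraicClosure K
  let B := L ⊗[K] A
  haveI : IsReduced B := (P.baseChange L).isReduced_of_isAlgClosed (by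
    rw [Module.finrank_baseChange, ← map_natCast (algebraMap K L)]
    exact (_root_.map_ne_zero _).2 hn)
  haveI : IsArtinianRing B := IsArtinianRing.of_finite L B
  haveI : ∀ I : MaximalSpectrum B, Algebra.FormallyUnramified L (B ⧸ I.asIdeal) := fun I => by
    haveI := I.isMaximal
    exact Algebra.FormallyUnramified.of_equiv (AlgEquiv.ofBijective (Algebra.ofId L (B ⧸ I.asIdeal))
      (IsAlgClosed.algebraMap_bijective_of_isIntegral (k := L)))
  haveI : Algebra.FormallyUnramified L (∀ I : MaximalSpectrum B, B ⧸ I.asIdeal) :=
    (Algebra.FormallyUnramified.pi_iff _).2 inferInstance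
  haveI : Algebra.FormallyUnramified L B :=
    Algebra.FormallyUnramified.of_equiv ((IsArtinianRing.equivPi B).restrictScalars L).symm
  rw [Algebra.formallyUnramified_iff]
  letI : Algebra A B := Algebra.TensorProduct.rightAlgebra
  haveI : Subsingleton (L ⊗[K] Ω[A⁄K]) :=
    (KaehlerDifferential.tensorKaehlerEquivBase K L A B).subsingleton
  exact (Module.FaithfullyFlat.subsingleton_tensorProduct_iff_right K L).1 ‹_›

end Groth.Agent.TraceEtale22
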