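import Groth.Agent.Lib.TraceEtale22.Algebra
import Groth.Agent.Lib.FlatH4.SmoothFibres
import Mathlib.AlgebraicGeometry.Morphisms.FlatRank
import Mathlib.AlgebraicGeometry.Morphisms.QuasiFinite
import Mathlib.CategoryTheory.Monoidal.Cartesian.Grp

/-!
# Finite group schemes of invertible order are étale
-/

set_option autoImplicit false
set_option linter.style.haveILetI false
set_option backward.isDefEq.respectTransparency false
universe u

open CategoryTheory Limits AlgebraicGeometry MonoidalCategory CartesianMonoidalCategory
open scoped MonObj GrpObj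

namespace Groth.Agent.TraceEtale22

variable {K : Type u} [Field K] {A : Type u} [CommRing A] [Algebra K A]
  (G : Over (Spec (CommRingCat.of K)))

/-- The test object of an algebra. -/
noncomputable abbrev specObj (C : Type u) [CommRing C] [Algebra K C] : Over (Spec (CommRingCat.of K)) :=
  Over.mk (Spec.map (CommRingCat.ofHom (algebraMap K C)))

/-- Morphisms between test objects come from algebra maps. -/
noncomputable def homEquiv (C : Type u) [CommRing C] [Algebra K C] :
    (A →ₐ[K] C) ≃ (specObj (K := K) C ⟶ specObj (K := K) A) where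
  toFun f := Over.homMk (Spec.map (CommRingCat.ofHom f.toRingHom)) (by
    show Spec.map _ ≫ Spec.map _ = Spec.map _
    rw [← Spec.map_comp]
    congr 1
    ext x
    exact f.commutes x)
  invFun g :=
    { (Spec.preimage g.left).hom with
      commutes' := fun x => by
        have h : CommRingCat.ofHom (algebraMap K A) ≫ Spec.preimage g.left = CommRingCat.ofHom (algebraMap K C) :=
          Spec.map_injective (by rw [Spec.map_comp, Spec.map_preimage]; exact Over.w g)
        exact ConcreteCategory.congr_hom h x }
  left_inv f := by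
    ext x
    exact ConcreteCategory.congr_hom (Spec.preimage_map (CommRingCat.ofHom f.toRingHom)) x
  right_inv g := by
    ext1
    exact Spec.map_preimage g.left

/-- The morphism of test objects attached to an algebra map. -/
noncomputable abbrev testMap {C D : Type u} [CommRing C] [Algebra K C] [CommRing D] [Algebra K D]
    (f : C →ₐ[K] D) : specObj (K := K) D ⟶ specObj (K := K) C := homEquiv D f

theorem homEquiv_comp {C D : Type u} [CommRing C] [Algebra K C] [CommRing D] [Algebra K D]
    (f : C →ₐ[K] D) (a : A →ₐ[K] C) : homEquiv D (f.comp a) = testMap f ≫ homEquiv C a := by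
  ext1
  exact Spec.map_comp (CommRingCat.ofHom a.toRingHom) (CommRingCat.ofHom f.toRingHom)

variable [GrpObj G] (θ : G ≅ specObj (K := K) A)

/-- The group of points of an affine group scheme, in terms of algebra maps. -/
noncomputable def pointEquiv (C : Type u) [CommRing C] [Algebra K C] :
    (A →ₐ[K] C) ≃ (specObj (K := K) C ⟶ G) :=
  (homEquiv C).trans θ.symm.homToEquiv

theorem pointEquiv_comp {C D : Type u} [CommRing C] [Algebra K C] [CommRing D] [Algebra K D]
    (f : C →ₐ[K] D) (a : A →ₐ[K] C) :
    pointEquiv G θ D (f.comp a) = testMap f ≫ pointEquiv G θ C a := by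
  show homEquiv D (f.comp a) ≫ θ.inv = testMap f ≫ homEquiv C a ≫ θ.inv
  rw [homEquiv_comp, Category.assoc]

/-- The group structure on points of an affine group scheme. -/
noncomputable def pointGroup : PointGroup K A where
  mul C _ _ a b := (pointEquiv G θ C).symm (pointEquiv G θ C a * pointEquiv G θ C b)
  one C _ _ := (pointEquiv G θ C).symm 1
  inv C _ _ a := (pointEquiv G θ C).symm (pointEquiv G θ C a)⁻¹
  mul_assoc C _ _ a b c := by simp only [Equiv.apply_symm_apply, _root_.mul_assoc]
  one_mul C _ _ a := by simp only [Equiv.apply_symm_apply, _root_.one_mul, Equiv.symm_apply_apply]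
  mul_one C _ _ a := by simp only [Equiv.apply_symm_apply, _root_.mul_one, Equiv.symm_apply_apply]
  inv_mul C _ _ a := by simp only [Equiv.apply_symm_apply, inv_mul_cancel]
  mul_inv C _ _ a := by simp only [Equiv.apply_symm_apply, mul_inv_cancel]
  comp_mul C D _ _ _ _ f a b := by
    apply (pointEquiv G θ D).injective
    rw [pointEquiv_comp, Equiv.apply_symm_apply, MonObj.comp_mul, Equiv.apply_symm_apply,
      pointEquiv_comp, pointEquiv_comp]

omit [GrpObj G] in
/-- A finite group scheme over a field of invertible order is étale. -/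
theorem etale_of_finrank_ne_zero (G : Over (Spec (CommRingCat.of K))) [GrpObj G] [IsFinite G.hom]
    (h : (G.hom.finrank (IsLocalRing.closedPoint K) : K) ≠ 0) : Etale G.hom := by
  haveI : IsAffine G.left := isAffine_of_isAffineHom G.hom
  obtain ⟨φ, hφ⟩ := Spec.map_surjective (G.left.isoSpec.inv ≫ G.hom)
  letI : Algebra K Γ(G.left, ⊤) := φ.hom.toAlgebra
  let θ : G ≅ specObj (K := K) Γ(G.left, ⊤) := Over.isoMk G.left.isoSpec (by
    show G.left.isoSpec.hom ≫ Spec.map φ = G.hom
    rw [hφ, Iso.hom_inv_id_assoc])
  have hG : G.hom = G.left.isoSpec.hom ≫ Spec.map φ := by rw [hφ, Iso.hom_inv_id_assoc]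
  haveI hfin' : IsFinite (Spec.map φ) := by rw [hφ]; infer_instance
  haveI : Module.Finite K Γ(G.left, ⊤) := (IsFinite.SpecMap_iff φ).1 hfin'
  rw [hG, Scheme.Hom.finrank_comp_left_of_isIso] at h
  have hr := Scheme.Hom.finrank_SpecMap_algebraMap K Γ(G.left, ⊤) (IsLocalRing.closedPoint K)
  rw [Module.rankAtStalk_eq_finrank_of_free] at hr
  have hn : (Module.finrank K Γ(G.left, ⊤) : K) ≠ 0 := fun h0 => h (by
    rw [show Spec.map φ = Spec.map (CommRingCat.ofHom (algebraMap K Γ(G.left, ⊤))) from rfl, hr]
    exact h0)
  haveI := formallyUnramified_of_pointGroup (pointGroup G θ) hn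
  haveI : Algebra.FinitePresentation K Γ(G.left, ⊤) :=
    (Algebra.FinitePresentation.of_finiteType).1 inferInstance
  haveI : Algebra.Etale K Γ(G.left, ⊤) := Algebra.Etale.of_formallyUnramified_of_flat
  have hsp : Etale (Spec.map φ) := by
    rw [HasRingHomProperty.Spec_iff (P := @Etale)]
    exact RingHom.etale_algebraMap.2 ‹_›
  rw [hG]
  infer_instance

variable {S : Scheme.{u}}

/-- A flat group scheme with finite fibres of invertible order is étale. -/
theorem etale_of_fibres (X : Over S) [GrpObj X] [Flat X.hom] [LocallyOfFinitePresentation X.hom]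
    (hfin : ∀ (L : Type u) [Field L] (a : Spec (CommRingCat.of L) ⟶ S), IsFinite (pullback.snd X.hom a))
    (h : ∀ (L : Type u) [Field L] (a : Spec (CommRingCat.of L) ⟶ S),
      ((pullback.snd X.hom a).finrank (IsLocalRing.closedPoint L) : L) ≠ 0) : Etale X.hom := by
  refine FlatH4.etale_of_flat_of_fibres X.hom fun L _ a => ?_
  let Y := (Over.pullback a).obj X
  letI : GrpObj Y := Functor.grpObjObj
  haveI : IsFinite Y.hom := hfin L a
  haveI : Etale (pullback.snd X.hom a) := etale_of_finrank_ne_zero Y (h L a)
  rw [← pullbackSymmetry_hom_comp_snd]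
  infer_instance

/-- The order of a base change to a field. -/
theorem finrank_pullback_field (X : Over S) (L : Type u) [Field L] (a : Spec (CommRingCat.of L) ⟶ S)
    [IsFinite (pullback.snd X.hom (S.fromSpecResidueField (a (IsLocalRing.closedPoint L))))]
    (n : ℕ)
    (hn : ∀ x, (pullback.snd X.hom (S.fromSpecResidueField (a (IsLocalRing.closedPoint L)))).finrank x = n) :
    IsFinite (pullback.snd X.hom a) ∧ (pullback.snd X.hom a).finrank (IsLocalRing.closedPoint L) = n := by
  set s := a (IsLocalRing.closedPoint L)
  let b : Spec (CommRingCat.of L) ⟶ Spec (S.residueField s) :=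
    Spec.map (Scheme.descResidueField (Scheme.stalkClosedPointTo a))
  have hb : b ≫ S.fromSpecResidueField s = a :=
    Scheme.descResidueField_stalkClosedPointTo_fromSpecResidueField L S a
  let f := pullback.snd X.hom (S.fromSpecResidueField s)
  haveI : Flat f := inferInstance
  let c : pullback X.hom a ⟶ pullback X.hom (S.fromSpecResidueField s) :=
    pullback.lift (pullback.fst _ _) (pullback.snd X.hom a ≫ b) (by
      rw [Category.assoc, hb, pullback.condition])
  have hP : IsPullback c (pullback.snd X.hom a) f b := by
    refine IsPullback.of_right ?_ (pullback.lift_snd _ _ _) (IsPullback.of_hasPullback X.hom (S.fromSpecResidueField s))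
    rw [pullback.lift_fst, hb]
    exact IsPullback.of_hasPullback X.hom a
  refine ⟨MorphismProperty.of_isPullback hP inferInstance, ?_⟩
  rw [Scheme.Hom.finrank_of_isPullback _ _ _ _ hP]
  exact hn _

end Groth.Agent.TraceEtale22
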